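import Groth.Agent.AbExt.Prelim
import Groth.Agent.PicCurve.Rigify
import Groth.Agent.S4808

/-!
Sections of abelian schemes over regular bases extend from nonempty opens.
-/

noncomputable section

set_option autoImplicit false
set_option linter.style.haveILetI false
set_option linter.unusedSectionVars false
set_option backward.isDefEq.respectTransparency false
set_option backward.isDefEq.respectTransparency.types false
set_option maxHeartbeats 1000000
set_option synthInstance.maxHeartbeats 400000

universe u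

open CategoryTheory CategoryTheory.Limits MonoidalCategory CartesianMonoidalCategory MonObj AlgebraicGeometry TopologicalSpace

attribute [-instance] CategoryTheory.catToReflQuiver

namespace Groth.Agent.AbExt

open Groth.Agent Groth.Agent.H23 Groth.Agent.H23.TrivBasic Groth.Agent.H23.CubeAb Groth.Agent.H23.SeesawGlobal
open scoped Groth.Agent.H23.PicMul CategoryTheory.Obj

/-- finitely many rational points make a scheme of finite type over an algebraically closed field finite -/
theorem finite_of_finite_points {Ω : Type u} [Field Ω] [IsAlgClosed Ω] {X : Scheme.{u}}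
    (f : X ⟶ Spec (CommRingCat.of Ω)) [LocallyOfFiniteType f]
    (h : {p : Spec (CommRingCat.of Ω) ⟶ X | p ≫ f = 𝟙 _}.Finite) : Finite X := by
  haveI : JacobsonSpace X := LocallyOfFiniteType.jacobsonSpace f
  let P : Set X := (fun p : Spec (CommRingCat.of Ω) ⟶ X => p (IsLocalRing.closedPoint Ω)) '' {p | p ≫ f = 𝟙 _}
  have hsub : closedPoints X ⊆ P := fun x hx =>
    ⟨pointOfClosedPoint f x hx, pointOfClosedPoint_comp f x hx, pointOfClosedPoint_apply f x hx _⟩
  have hP : (closedPoints X).Finite := (h.image _).subset hsub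
  have hcl : IsClosed (closedPoints X) := by
    rw [← Set.biUnion_of_singleton (closedPoints X)]
    exact hP.isClosed_biUnion fun x hx => hx
  have huniv : (closedPoints X) = Set.univ := hcl.closure_eq.symm.trans closure_closedPoints
  exact Set.finite_univ_iff.1 (huniv ▸ hP)

/-- a finite morphism to a normal integral scheme with a section over a dense open containing the generic fibre -/
theorem isIso_of_section {Y' Y V : Scheme.{u}} [IsIntegral Y'] [IsIntegral Y]
    (hN : ∀ y : Y, IsIntegrallyClosed (Y.presheaf.stalk y)) (f : Y' ⟶ Y) [IsFinite f]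
    (j : V ⟶ Y) [IsOpenImmersion j] (r : V ⟶ Y') (hr : r ≫ f = j) (hV : genericPoint Y ∈ Set.range j)
    (hfib : f ⁻¹' {genericPoint Y} ⊆ Set.range r) : IsIso f := by
  obtain ⟨v, hv⟩ := hV
  have hfv : f (r v) = genericPoint Y := by rw [← Scheme.Hom.comp_apply, hr, hv]
  have hgen : f (genericPoint Y') = genericPoint Y := by
    refine Specializes.antisymm ?_ (genericPoint_specializes _) |>.eq
    rw [← hfv]
    exact (genericPoint_specializes (r v)).map f.continuous
  obtain ⟨w, hw⟩ := hfib hgen
  refine S4808.result hN f hgen ?_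
  rw [← hw]
  haveI : IsField (Y'.presheaf.stalk (r w)) → Function.Injective (r.stalkMap w).hom := fun hK =>
    letI := hK.toField
    (r.stalkMap w).hom.injective
  have hinj : Function.Injective (r.stalkMap w).hom := this (by
    rw [hw]
    exact Field.toIsField Y'.functionField)
  have hiso : IsIso (f.stalkMap (r w) ≫ r.stalkMap w) := by
    rw [← Scheme.Hom.stalkMap_comp]
    exact Scheme.Hom.stalkMap_congr_hom (r ≫ f) j hr w ▸ inferInstance
  have hb := ConcreteCategory.bijective_of_isIso (f.stalkMap (r w) ≫ r.stalkMap w)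
  haveI : IsIso (r.stalkMap w) := (ConcreteCategory.isIso_iff_bijective _).2 ⟨hinj, by
    intro a
    obtain ⟨b, hb'⟩ := hb.2 a
    exact ⟨_, hb'⟩⟩
  exact IsIso.of_isIso_comp_right (f.stalkMap (r w)) (r.stalkMap w)

/-- translations of a geometric fibre with a given effect on a non-degenerate class form a finite set -/
theorem finite_of_pullCl_tr {Ω : Type u} [Field Ω] [IsAlgClosed Ω] {AK : Over (Spec (CommRingCat.of Ω))} [GrpObj AK]
    [IsProper AK.hom] [GeometricallyIntegral AK.hom]
    (c d : PicF.Cl AK.left)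
    (hfix : {p : 𝟙_ (Over (Spec (CommRingCat.of Ω))) ⟶ AK | PicF.pullCl (tr p).left c = c}.Finite) :
    {p : 𝟙_ (Over (Spec (CommRingCat.of Ω))) ⟶ AK | PicF.pullCl (tr p).left c = d}.Finite := by
  rcases Set.eq_empty_or_nonempty {p : 𝟙_ (Over (Spec (CommRingCat.of Ω))) ⟶ AK | PicF.pullCl (tr p).left c = d}
    with h | ⟨p, hp⟩
  · rw [h]
    exact Set.finite_empty
  refine (hfix.image (fun a => p * a)).subset fun q hq => ?_
  refine ⟨p⁻¹ * q, ?_, _root_.mul_inv_cancel_left p q⟩
  have h4 : PicMul.pullHom (tr p⁻¹).left (F c (tr q)) = PicMul.pullHom (tr p⁻¹).left (F c (tr p)) :=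
    congrArg _ ((show F c (tr q) = d from hq).trans (show d = F c (tr p) from hp.symm))
  rw [pull_F, pull_F, AVVanish.tr_comp, AVVanish.tr_comp, inv_mul_cancel, AVVanish.F_tr_one] at h4
  exact h4

variable {T : Scheme.{u}}

/-- the translate of a class by a point with values in a scheme over the base -/
def trCl (A : Over T) [GrpObj A] {R : Over T} (x : R ⟶ A) (l : PicF.Cl A.left) : PicF.Cl (A ⊗ R).left :=
  PicF.pullCl (fst A R * snd A R ≫ x).left l

theorem pullCl_trCl (A : Over T) [GrpObj A] {R R' : Over T} (z : R' ⟶ R) (x : R ⟶ A) (l : PicF.Cl A.left) :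
    PicMul.pullHom (A ◁ z).left (trCl A x l) = trCl A (z ≫ x) l := by
  show PicF.pullCl (A ◁ z).left (PicF.pullCl _ l) = PicF.pullCl _ l
  rw [PicClLib.pullCl_comp, ← Over.comp_left, MonObj.comp_mul, whiskerLeft_fst, whiskerLeft_snd_assoc]

theorem pullCl_fst (A : Over T) {R R' : Over T} (z : R' ⟶ R) (l : PicF.Cl A.left) :
    PicMul.pullHom (A ◁ z).left (PicF.pullCl (fst A R).left l) = PicF.pullCl (fst A R').left l := by
  show PicF.pullCl (A ◁ z).left (PicF.pullCl _ l) = PicF.pullCl _ l
  rw [PicClLib.pullCl_comp, ← Over.comp_left, whiskerLeft_fst]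

/-- pullback of a class trivial over a test object is trivial on the fibre product -/
theorem triv_of_whisker (A : Over T) {R R' : Over T} (z : R' ⟶ R) (L : (A ⊗ R).left.Modules)
    (h : PicMul.pullHom (A ◁ z).left (PicF.cl L) = 1) :
    Triv ((Scheme.Modules.pullback (pullback.fst (snd A R).left z.left)).obj L) := by
  let t : pullback (snd A R).left z.left ⟶ (A ⊗ R').left :=
    pullback.lift (pullback.fst (snd A R).left z.left ≫ (fst A R).left) (pullback.snd _ _) (by
      rw [Category.assoc, ← Over.w z, ← Category.assoc (pullback.snd _ _), ← pullback.condition, Category.assoc,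
        Over.w (fst A R), Over.w (snd A R)])
  refine triv_of_factor t ?_ (show Triv ((Scheme.Modules.pullback (A ◁ z).left).obj L) from PicMul.cl_eq_iff.1 h)
  refine pullback.hom_ext ?_ ?_
  · rw [Category.assoc, show (A ◁ z).left ≫ pullback.fst A.hom R.hom = (fst A R').left from
      congrArg (fun m => m.left) (whiskerLeft_fst A z)]
    exact pullback.lift_fst _ _ _
  · rw [Category.assoc, show (A ◁ z).left ≫ pullback.snd A.hom R.hom = (snd A R').left ≫ z.left from
      congrArg (fun m => m.left) (whiskerLeft_snd A z)]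
    exact (pullback.lift_snd_assoc _ _ _ _).trans pullback.condition.symm

/-- conversely -/
theorem pullCl_whisker_eq_one (A : Over T) {R R' : Over T} (z : R' ⟶ R) (L : (A ⊗ R).left.Modules)
    (h : Triv ((Scheme.Modules.pullback (pullback.fst (snd A R).left z.left)).obj L)) :
    PicMul.pullHom (A ◁ z).left (PicF.cl L) = 1 :=
  PicMul.cl_eq_iff.2 (triv_of_factor (pullback.lift (A ◁ z).left (snd A R').left
    (congrArg (fun m => m.left) (whiskerLeft_snd A z))) (pullback.lift_fst _ _ _) h)

/-- classes are cancelled by their inverses after pulling back -/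
theorem pullCl_mul_invCl {X Y : Scheme.{u}} (f : X ⟶ Y) {a : PicF.Cl Y} (ha : PicF.IsInvertibleCl a) :
    PicF.pullCl f (PicCurve.invCl ha) * PicF.pullCl f a = 1 := by
  show PicMul.pullHom f (PicCurve.invCl ha) * PicMul.pullHom f a = 1
  rw [← map_mul, PicCurve.invCl_mul, map_one]

theorem eq_of_mul_mul_eq_one {M : Type*} [CommMonoid M] {a b c b' c' : M} (h : a * b * c = 1) (hb : b * b' = 1)
    (hc : c * c' = 1) : a = b' * c' :=
  calc a = a * ((b * b') * (c * c')) := by rw [hb, hc, _root_.mul_one, _root_.mul_one]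
    _ = (a * b * c) * (b' * c') := by ac_rfl
    _ = b' * c' := by rw [h, _root_.one_mul]

/-- a trivial difference class makes the translate constant -/
theorem pullCl_tr_eq (A : Over T) [GrpObj A] {Ω : Type u} [Field Ω] (σ : Spec (CommRingCat.of Ω) ⟶ T)
    (y : Over.mk σ ⟶ A) {l m : PicF.Cl A.left} (hl : PicF.IsInvertibleCl l) (hm : PicF.IsInvertibleCl m)
    (h : trCl A y l * PicF.pullCl (fst A (Over.mk σ)).left (PicCurve.invCl hl) *
      PicF.pullCl (fst A (Over.mk σ)).left (PicCurve.invCl hm) = 1) :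
    letI : GrpObj ((Over.pullback σ).obj A) := Functor.grpObjObj
    PicF.pullCl (tr (AVPoinc.diag σ ≫ (Over.pullback σ).map y)).left (PicF.pullCl (pullback.fst A.hom σ) l) =
      PicF.pullCl (pullback.fst A.hom σ) l * PicF.pullCl (pullback.fst A.hom σ) m := by
  letI : GrpObj ((Over.pullback σ).obj A) := Functor.grpObjObj
  rw [PicClLib.pullCl_comp, AVPoinc.tr_left_fst]
  exact eq_of_mul_mul_eq_one h (pullCl_mul_invCl _ hl) (pullCl_mul_invCl _ hm)

/-- a section over a nonempty open of an integral regular base extends near every point -/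
theorem exists_extension_integral [IsLocallyNoetherian T] [IsIntegral T] [T.IsSeparated]
    (hreg : ∀ t : T, IsRegularLocalRing (T.presheaf.stalk t))
    (A : Over T) [GrpObj A] [IsProper A.hom] [Smooth A.hom] [GeometricallyConnected A.hom]
    (V : T.Opens) (hV : (V : Set T).Nonempty) (s : V.toScheme ⟶ A.left) (hs : s ≫ A.hom = V.ι) (t : T) :
    ∃ (W : T.Opens) (h : W.toScheme ⟶ A.left), t ∈ W ∧ h ≫ A.hom = W.ι ∧
      ∀ {P : Scheme.{u}} (a : P ⟶ W.toScheme) (b : P ⟶ V.toScheme), a ≫ W.ι = b ≫ V.ι → a ≫ h = b ≫ s := by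
  obtain ⟨l, hl, hlfix⟩ := exists_line_finite_fix hreg A t
  haveI := AbDualBase.geometricallyIntegral_hom A
  haveI : IsLocallyNoetherian A.left := LocallyOfFiniteType.isLocallyNoetherian A.hom
  haveI : Nonempty V.toScheme := hV.to_subtype
  haveI : IsIntegral V.toScheme := isIntegral_of_isOpenImmersion V.ι
  let R : Over T := Over.mk V.ι
  let x : R ⟶ A := Over.homMk s hs
  -- the difference of the translate, extended
  haveI : IsOpenImmersion (fst A R).left := inferInstanceAs (IsOpenImmersion (pullback.fst A.hom V.ι))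
  obtain ⟨m, hm, hm0⟩ := exists_extend_cl (fst A R).left (fun y => (ufd_stalk hreg A.hom y).2)
    (c := trCl A x l * PicF.pullCl (fst A R).left (PicCurve.invCl hl))
    (PicMul.isInvertibleCl_mul (PicClLib.isInvertibleCl_pullCl _ hl)
      (PicClLib.isInvertibleCl_pullCl _ (PicCurve.isInvertibleCl_invCl hl)))
  -- the closure of the graph
  let C : Closeds A.left := ⟨closure (Set.range s), isClosed_closure⟩
  let I := Scheme.IdealSheafData.vanishingIdeal C
  let Γs := I.subscheme
  let J : Γs ⟶ A.left := I.subschemeι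
  haveI : IsReduced Γs := RedSub.isReduced_vanishingIdeal C
  have hJrange : Set.range J = closure (Set.range s) := RedSub.range_vanishingIdeal C
  obtain ⟨sΓ, hsΓ⟩ := RedSub.exists_lift_closed s J (by rw [hJrange]; exact subset_closure)
  have hdense : closure (Set.range sΓ) = Set.univ := by
    rw [J.isClosedEmbedding.isInducing.closure_eq_preimage_closure_image, ← Set.range_comp,
      show J ∘ sΓ = (s : V.toScheme → A.left) from funext fun v => congr($hsΓ v)]
    exact Set.eq_univ_of_forall fun y => hJrange ▸ Set.mem_range_self y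
  haveI : IrreducibleSpace Γs := by
    have h : IsIrreducible (closure (Set.range sΓ)) := by
      rw [← Set.image_univ]
      exact ((IrreducibleSpace.isIrreducible_univ _).image sΓ sΓ.continuous.continuousOn).closure
    rw [hdense] at h
    exact (irreducibleSpace_def _).2 h
  haveI : IsIntegral Γs := isIntegral_of_irreducibleSpace_of_isReduced _
  let π : Γs ⟶ T := J ≫ A.hom
  haveI : IsProper π := inferInstance
  have hπ : sΓ ≫ π = V.ι := by rw [← Category.assoc, hsΓ, hs]
  have hover : ∀ y : Γs, π y ∈ V → y ∈ Set.range sΓ := by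
    intro y hy
    let U' := A.hom ⁻¹ᵁ V
    have hsU : Set.range s ⊆ Set.range U'.ι := by
      rw [Scheme.Opens.range_ι]
      rintro _ ⟨v, rfl⟩
      show A.hom (s v) ∈ V
      rw [← Scheme.Hom.comp_apply, hs]
      exact v.2
    let sl : V.toScheme ⟶ U'.toScheme := IsOpenImmersion.lift U'.ι s hsU
    have hsl : sl ≫ U'.ι = s := IsOpenImmersion.lift_fac _ _ _
    haveI : IsClosedImmersion (sl ≫ A.hom ∣_ V) := by
      rw [show sl ≫ A.hom ∣_ V = 𝟙 _ from by
        rw [← cancel_mono V.ι, Category.assoc, morphismRestrict_ι, ← Category.assoc, hsl, hs, Category.id_comp]]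
      infer_instance
    haveI : IsClosedImmersion sl := IsClosedImmersion.of_comp sl (A.hom ∣_ V)
    have hJy : J y ∈ closure (Set.range s) := hJrange ▸ Set.mem_range_self y
    have h1 : (⟨J y, hy⟩ : U'.toScheme) ∈ closure (Set.range sl) := by
      rw [U'.ι.isOpenEmbedding.isInducing.closure_eq_preimage_closure_image, ← Set.range_comp,
        show U'.ι ∘ sl = (s : V.toScheme → A.left) from funext fun v => congr($hsl v)]
      exact hJy
    rw [sl.isClosedEmbedding.isClosed_range.closure_eq] at h1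
    obtain ⟨v, hv⟩ := h1
    refine ⟨v, J.isClosedEmbedding.injective ?_⟩
    rw [← Scheme.Hom.comp_apply, hsΓ, ← hsl, Scheme.Hom.comp_apply, hv]
    rfl
  -- the class on the product with the graph
  let R' : Over T := Over.mk π
  let γ' : R' ⟶ A := Over.homMk J rfl
  let zV : R ⟶ R' := Over.homMk sΓ hπ
  have hzV : zV ≫ γ' = x := Over.OverMorphism.ext hsΓ
  obtain ⟨L, hLc, hL⟩ := PicMul.isInvertibleCl_mul (PicMul.isInvertibleCl_mul
    (PicClLib.isInvertibleCl_pullCl (fst A R' * snd A R' ≫ γ').left hl)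
    (PicClLib.isInvertibleCl_pullCl (fst A R').left (PicCurve.isInvertibleCl_invCl hl)))
    (PicClLib.isInvertibleCl_pullCl (fst A R').left (PicCurve.isInvertibleCl_invCl hm))
  have hpull : ∀ {R'' : Over T} (z : R'' ⟶ R'), PicMul.pullHom (A ◁ z).left (PicF.cl L) =
      trCl A (z ≫ γ') l * PicF.pullCl (fst A R'').left (PicCurve.invCl hl) *
        PicF.pullCl (fst A R'').left (PicCurve.invCl hm) := by
    intro R'' z
    rw [hLc, show PicF.pullCl (fst A R' * snd A R' ≫ γ').left l = trCl A γ' l from rfl, map_mul, map_mul,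
      pullCl_trCl, pullCl_fst, pullCl_fst]
  let p : (A ⊗ R').left ⟶ Γs := (snd A R').left
  haveI : IsProper p := inferInstanceAs (IsProper (pullback.snd A.hom π))
  haveI : Flat p := inferInstanceAs (Flat (pullback.snd A.hom π))
  haveI : LocallyOfFinitePresentation p := inferInstanceAs (LocallyOfFinitePresentation (pullback.snd A.hom π))
  haveI : GeometricallyIntegral p := inferInstanceAs (GeometricallyIntegral (pullback.snd A.hom π))
  have htrivV : Triv ((Scheme.Modules.pullback (pullback.fst p sΓ)).obj L) := by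
    refine triv_of_whisker A zV L ?_
    rw [hpull, hzV, ← hm0, mul_comm, pullCl_mul_invCl]
  have hall : ∀ y : Γs, FieldTriv p L y := by
    intro y
    have hmem : Set.range sΓ ⊆ {v | FieldTriv p L v} := by
      rintro _ ⟨v, rfl⟩
      refine FppfPic.fieldTriv_of_triv p L hL _ (V.toScheme.residueField v) (V.toScheme.fromSpecResidueField v ≫ sΓ)
        (congrArg sΓ (Scheme.fromSpecResidueField_apply v _)) ?_
      exact triv_pullback_of_factor _ rfl htrivV
    exact (hdense ▸ (FppfPic.isClosed_trivLocus p L hL).closure_subset_iff.2 hmem) (Set.mem_univ y)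
  -- finiteness of the geometric fibre over `t`
  let Ω := AlgebraicClosure (T.residueField t)
  let σ : Spec (CommRingCat.of Ω) ⟶ T :=
    Spec.map (CommRingCat.ofHom (algebraMap (T.residueField t) Ω)) ≫ T.fromSpecResidueField t
  have hσ : ∀ o, σ o = t := fun o => by
    rw [Scheme.Hom.comp_apply]
    exact Scheme.fromSpecResidueField_apply _ _
  letI : GrpObj ((Over.pullback σ).obj A) := Functor.grpObjObj
  haveI : GeometricallyIntegral ((Over.pullback σ).obj A).hom := AbDualBase.geometricallyIntegral_fibre σ A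
  haveI : IsProper ((Over.pullback σ).obj A).hom := inferInstanceAs (IsProper (pullback.snd A.hom σ))
  let lσ := PicF.pullCl (pullback.fst A.hom σ) l
  let mσ := PicF.pullCl (pullback.fst A.hom σ) m
  have hfin : {z : Spec (CommRingCat.of Ω) ⟶ Γs | z ≫ π = σ}.Finite := by
    let D := {q : 𝟙_ (Over (Spec (CommRingCat.of Ω))) ⟶ (Over.pullback σ).obj A |
      PicF.pullCl (tr q).left lσ = lσ * mσ}
    have hD : D.Finite :=
      finite_of_pullCl_tr (AK := (Over.pullback σ).obj A) lσ (lσ * mσ) (hlfix Ω σ (hσ _))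
    haveI := hD.to_subtype
    let qz : ∀ z : Spec (CommRingCat.of Ω) ⟶ Γs, z ≫ π = σ →
        (𝟙_ (Over (Spec (CommRingCat.of Ω))) ⟶ (Over.pullback σ).obj A) := fun z hz =>
      Over.homMk (pullback.lift (z ≫ J) (𝟙 _) (by rw [Category.assoc, Category.id_comp]; exact hz))
        (pullback.lift_snd _ _ _)
    have hqz : ∀ z hz, qz z hz ∈ D := by
      intro z hz
      let z' : Over.mk σ ⟶ R' := Over.homMk z hz
      have h1 : PicMul.pullHom (A ◁ z').left (PicF.cl L) = 1 :=
        pullCl_whisker_eq_one A z' L (hall _ Ω z rfl)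
      rw [hpull] at h1
      have h2 : qz z hz = AVPoinc.diag σ ≫ (Over.pullback σ).map (z' ≫ γ') := by
        refine (AVPoinc.diag_map σ (qz z hz)).symm.trans ?_
        congr 2
        exact Over.OverMorphism.ext (pullback.lift_fst _ _ _)
      show PicF.pullCl (tr (qz z hz)).left lσ = lσ * mσ
      rw [h2]
      exact pullCl_tr_eq A σ (z' ≫ γ') hl hm h1
    haveI : Finite ↥{z : Spec (CommRingCat.of Ω) ⟶ Γs | z ≫ π = σ} := by
      refine Finite.of_injective (β := ↥D)
        (fun z : ↥{z : Spec (CommRingCat.of Ω) ⟶ Γs | z ≫ π = σ} => (⟨qz z.1 z.2, hqz z.1 z.2⟩ : ↥D))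
        fun z w hzw => Subtype.ext ?_
      have h := congrArg (fun q => q.left ≫ pullback.fst A.hom σ) (Subtype.mk.inj hzw)
      simp only [qz, Over.homMk_left] at h
      rwa [pullback.lift_fst, pullback.lift_fst, cancel_mono] at h
    exact Set.toFinite _
  haveI : Finite ↥(pullback π σ) := by
    refine finite_of_finite_points (pullback.snd π σ) ?_
    haveI : Finite ↥{q : Spec (CommRingCat.of Ω) ⟶ pullback π σ | q ≫ pullback.snd π σ = 𝟙 _} := by
      haveI := hfin.to_subtype
      refine Finite.of_injective (β := ↥{z : Spec (CommRingCat.of Ω) ⟶ Γs | z ≫ π = σ})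
        (fun q => ⟨q.1 ≫ pullback.fst π σ, by
          show (q.1 ≫ pullback.fst π σ) ≫ π = σ
          rw [Category.assoc, pullback.condition, ← Category.assoc, q.2, Category.id_comp]⟩)
        fun q q' h => Subtype.ext (pullback.hom_ext (Subtype.mk.inj h) (q.2.trans q'.2.symm))
    exact Set.toFinite _
  have hfibt : (π ⁻¹' {t}).Finite := by
    have h : π ⁻¹' {t} = Set.range (pullback.fst π σ) := by
      rw [Scheme.Pullback.range_fst]
      congr 1
      refine Set.ext fun y => ⟨fun h => ⟨IsLocalRing.closedPoint Ω, (hσ _).trans h.symm⟩, ?_⟩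
      rintro ⟨o, rfl⟩
      exact hσ o
    rw [h]
    exact Set.finite_range _
  obtain ⟨W, htW, hW⟩ := exists_isFinite_morphismRestrict_of_finite_preimage_singleton π t hfibt
  haveI : Nonempty W.toScheme := ⟨⟨t, htW⟩⟩
  haveI : IsIntegral W.toScheme := isIntegral_of_isOpenImmersion W.ι
  have hξV : genericPoint T ∈ V := by
    obtain ⟨v, hv⟩ := hV
    exact (genericPoint_specializes v).mem_open V.isOpen hv
  let W' := W.ι ⁻¹ᵁ V
  let ξW := genericPoint W.toScheme
  have hξW : W.ι ξW = genericPoint T := genericPoint_eq_of_isOpenImmersion W.ι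
  let j := W'.ι
  let b₀ : W'.toScheme ⟶ V.toScheme := W.ι ∣_ V
  have hb₀ : b₀ ≫ V.ι = j ≫ W.ι := morphismRestrict_ι _ _
  have hrW : Set.range (b₀ ≫ sΓ) ⊆ Set.range (π ⁻¹ᵁ W).ι := by
    rw [Scheme.Opens.range_ι]
    rintro _ ⟨w, rfl⟩
    show π ((b₀ ≫ sΓ) w) ∈ W
    rw [← Scheme.Hom.comp_apply, Category.assoc, hπ, hb₀]
    exact (j w).2
  let r : W'.toScheme ⟶ (π ⁻¹ᵁ W).toScheme := IsOpenImmersion.lift (π ⁻¹ᵁ W).ι (b₀ ≫ sΓ) hrW
  have hr : r ≫ (π ⁻¹ᵁ W).ι = b₀ ≫ sΓ := IsOpenImmersion.lift_fac _ _ _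
  have hrπ : r ≫ π ∣_ W = j := by
    rw [← cancel_mono W.ι, Category.assoc, morphismRestrict_ι, ← Category.assoc, hr, Category.assoc, hπ, hb₀]
  have hξW' : ξW ∈ Set.range j := ⟨⟨ξW, show W.ι ξW ∈ V by rw [hξW]; exact hξV⟩, rfl⟩
  obtain ⟨wξ, hwξ⟩ := hξW'
  haveI : Nonempty (π ⁻¹ᵁ W).toScheme := ⟨r wξ⟩
  haveI : IsIntegral (π ⁻¹ᵁ W).toScheme := isIntegral_of_isOpenImmersion (π ⁻¹ᵁ W).ι
  haveI : IsIso (π ∣_ W) := by
    refine isIso_of_section (fun w => ?_) (π ∣_ W) j r hrπ ⟨wξ, hwξ⟩ fun y hy => ⟨wξ, ?_⟩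
    · obtain ⟨hd, hu⟩ := ufd_stalk hreg W.ι w
      haveI := hd
      haveI := hu
      infer_instance
    · refine (π ⁻¹ᵁ W).ι.isOpenEmbedding.injective ?_
      have hy' : π ((π ⁻¹ᵁ W).ι y) = genericPoint T := by
        rw [← Scheme.Hom.comp_apply, ← morphismRestrict_ι, Scheme.Hom.comp_apply, show (π ∣_ W) y = ξW from hy, hξW]
      obtain ⟨v, hv⟩ := hover _ (hy' ▸ hξV)
      rw [← Scheme.Hom.comp_apply, hr, Scheme.Hom.comp_apply, ← hv]
      refine congrArg sΓ (V.ι.isOpenEmbedding.injective ?_)
      rw [← Scheme.Hom.comp_apply b₀, hb₀, Scheme.Hom.comp_apply, hwξ, hξW, ← hy', ← hv, ← Scheme.Hom.comp_apply, hπ]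
  refine ⟨W, inv (π ∣_ W) ≫ (π ⁻¹ᵁ W).ι ≫ J, htW, ?_, fun {P} a b hab => ?_⟩
  · rw [Category.assoc, Category.assoc, IsIso.inv_comp_eq]
    exact (morphismRestrict_ι π W).symm
  · have ha : Set.range a ⊆ Set.range j := by
      rw [Scheme.Opens.range_ι]
      rintro _ ⟨q, rfl⟩
      show W.ι (a q) ∈ V
      rw [← Scheme.Hom.comp_apply, hab]
      exact (b q).2
    let a' := IsOpenImmersion.lift j a ha
    have ha' : a' ≫ j = a := IsOpenImmersion.lift_fac _ _ _
    have hb : a' ≫ b₀ = b := by
      rw [← cancel_mono V.ι, Category.assoc, hb₀, ← Category.assoc, ha', hab]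
    have hj : j ≫ inv (π ∣_ W) = r := by rw [IsIso.comp_inv_eq, hrπ]
    rw [← ha', Category.assoc, reassoc_of% hj, reassoc_of% hr, hsΓ, reassoc_of% hb]

end Groth.Agent.AbExt

end
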