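import Groth.Agent.AbExt.Core

/-!
Sections of abelian schemes over regular bases extend uniquely from dense opens.
-/

noncomputable section

set_option autoImplicit false
set_option linter.style.haveILetI false
set_option linter.unusedSectionVars false
set_option backward.isDefEq.respectTransparency false
set_option backward.isDefEq.respectTransparency.types false
set_option maxHeartbeats 1000000
set_option synthInstance.maxHeartbeats 400000

universe u

open CategoryTheory CategoryTheory.Limits MonoidalCategory CartesianMonoidalCategory MonObj AlgebraicGeometry TopologicalSpace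

attribute [-instance] CategoryTheory.catToReflQuiver

namespace Groth.Agent.AbExt

open Groth.Agent

variable {T : Scheme.{u}}

/-- a section over a dense open of a regular base extends near every point -/
theorem exists_extension_at [IsLocallyNoetherian T] (hreg : ∀ t : T, IsRegularLocalRing (T.presheaf.stalk t))
    (A : Over T) [GrpObj A] [IsProper A.hom] [Smooth A.hom] [GeometricallyConnected A.hom]
    (U : T.Opens) (hU : Dense (U : Set T)) (s : U.toScheme ⟶ A.left) (hs : s ≫ A.hom = U.ι) (t : T) :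
    ∃ (W : T.Opens) (g : W.toScheme ⟶ A.left), t ∈ W ∧ g ≫ A.hom = W.ι ≫ 𝟙 T ∧
      ∀ {P : Scheme.{u}} (a : P ⟶ W.toScheme) (b : P ⟶ U.toScheme), a ≫ W.ι = b ≫ U.ι → a ≫ g = b ≫ s := by
  haveI := isReduced_of_regular hreg
  obtain ⟨W0, htW0, hI, -⟩ := WeilExt.exists_integral_component
    (fun y => haveI := hreg y; (S2821.result (T.presheaf.stalk y)).1) t
  obtain ⟨W, hW, htW, hW0⟩ := exists_isAffineOpen_mem_and_subset (x := t) (U := W0) htW0
  haveI : IsAffine W.toScheme := hW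
  haveI : Nonempty W.toScheme := ⟨⟨t, htW⟩⟩
  haveI : IsIntegral W.toScheme := haveI := hI; isIntegral_of_isOpenImmersion (T.homOfLE hW0)
  haveI : IsLocallyNoetherian W.toScheme := LocallyOfFiniteType.isLocallyNoetherian W.ι
  let AW := (Over.pullback W.ι).obj A
  letI : GrpObj AW := Functor.grpObjObj
  haveI : IsProper AW.hom := inferInstanceAs (IsProper (pullback.snd A.hom W.ι))
  haveI : Smooth AW.hom := inferInstanceAs (Smooth (pullback.snd A.hom W.ι))
  haveI : GeometricallyConnected AW.hom := inferInstanceAs (GeometricallyConnected (pullback.snd A.hom W.ι))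
  let V := W.ι ⁻¹ᵁ U
  have hV : (V : Set W.toScheme).Nonempty := by
    obtain ⟨y, hyW, hyU⟩ := hU.inter_open_nonempty (W : Set T) W.isOpen ⟨t, htW⟩
    exact ⟨⟨y, hyW⟩, hyU⟩
  let b₀ : V.toScheme ⟶ U.toScheme := W.ι ∣_ U
  have hb₀ : b₀ ≫ U.ι = V.ι ≫ W.ι := morphismRestrict_ι _ _
  let s' : V.toScheme ⟶ AW.left := pullback.lift (b₀ ≫ s) V.ι (by rw [Category.assoc, hs, hb₀])
  obtain ⟨W1, h, htW1, hh, hhs⟩ := exists_extension_integral (WeilExt.isRegularLocalRing_stalk hreg W.ι) AW V hV s'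
    (pullback.lift_snd _ _ _) ⟨t, htW⟩
  let e : W1.toScheme ≅ (W.ι ''ᵁ W1).toScheme := IsOpenImmersion.isoOfRangeEq (W1.ι ≫ W.ι) (W.ι ''ᵁ W1).ι (by
    rw [Scheme.Opens.range_ι, Scheme.Hom.comp_base, TopCat.coe_comp, Set.range_comp, Scheme.Opens.range_ι]
    rfl)
  have he : e.inv ≫ W1.ι ≫ W.ι = (W.ι ''ᵁ W1).ι := IsOpenImmersion.isoOfRangeEq_inv_fac _ _ _
  refine ⟨W.ι ''ᵁ W1, e.inv ≫ h ≫ pullback.fst A.hom W.ι, ⟨⟨t, htW⟩, htW1, rfl⟩, ?_, fun {P} a b hab => ?_⟩
  · rw [Category.assoc, Category.assoc, pullback.condition, ← Category.assoc h, show h ≫ pullback.snd A.hom W.ι = W1.ι from hh, he, Category.comp_id]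
  · have hab' : (a ≫ e.inv ≫ W1.ι) ≫ W.ι = b ≫ U.ι := by
      rw [Category.assoc, Category.assoc, he, hab]
    have hr : Set.range (a ≫ e.inv ≫ W1.ι) ⊆ Set.range V.ι := by
      rw [Scheme.Opens.range_ι]
      rintro _ ⟨q, rfl⟩
      show W.ι ((a ≫ e.inv ≫ W1.ι) q) ∈ U
      rw [← Scheme.Hom.comp_apply, hab']
      exact (b q).2
    let b1 := IsOpenImmersion.lift V.ι (a ≫ e.inv ≫ W1.ι) hr
    have hb1 : b1 ≫ V.ι = a ≫ e.inv ≫ W1.ι := IsOpenImmersion.lift_fac _ _ _
    have hb : b1 ≫ b₀ = b := by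
      rw [← cancel_mono U.ι, Category.assoc, hb₀, ← Category.assoc, hb1, hab']
    have h1 := congrArg (· ≫ pullback.fst A.hom W.ι) (hhs (a ≫ e.inv) b1 ((Category.assoc _ _ _).trans hb1.symm))
    simp only [Category.assoc] at h1
    rw [h1, pullback.lift_fst, ← Category.assoc, hb]

/-- sections over a dense open of a regular base extend uniquely -/
theorem existsUnique_section [IsLocallyNoetherian T] (hreg : ∀ t : T, IsRegularLocalRing (T.presheaf.stalk t))
    (A : Over T) [GrpObj A] [IsProper A.hom] [Smooth A.hom] [GeometricallyConnected A.hom]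
    (U : T.Opens) (hU : Dense (U : Set T)) (s : U.toScheme ⟶ A.left) (hs : s ≫ A.hom = U.ι) :
    ∃! g : T ⟶ A.left, g ≫ A.hom = 𝟙 T ∧ U.ι ≫ g = s := by
  haveI := isReduced_of_regular hreg
  choose V g hxV hg hgf using exists_extension_at hreg A U hU s hs
  obtain ⟨h, hh, hhg⟩ := WeilExt.glue_extensions (𝟙 T) A.hom s hU V g hg hgf
  have htop : (⊤ : T.Opens) ≤ ⨆ x, V x := fun x _ => Opens.mem_iSup.2 ⟨x, hxV x⟩
  let gl : T ⟶ A.left := T.topIso.inv ≫ T.homOfLE htop ≫ h
  have hgl : ∀ x, (V x).ι ≫ gl = g x := fun x => by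
    rw [← hhg x]
    simp only [gl, ← Category.assoc]
    congr 1
    rw [← cancel_mono (⨆ x, V x).ι]
    simp only [Category.assoc, Scheme.homOfLE_ι]
    exact (congrArg ((V x).ι ≫ ·) T.topIso.inv_hom_id).trans (Category.comp_id _)
  have hglw : gl ≫ A.hom = 𝟙 T := by
    simp only [gl, Category.assoc, hh, Scheme.homOfLE_ι_assoc]
    exact T.topIso.inv_hom_id_assoc (𝟙 T)
  have hUgl : U.ι ≫ gl = s := by
    refine Scheme.hom_ext_of_forall _ _ fun u => ⟨U.ι ⁻¹ᵁ V (U.ι u), hxV _, ?_⟩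
    let a : (U.ι ⁻¹ᵁ V (U.ι u)).toScheme ⟶ (V (U.ι u)).toScheme := U.ι.resLE _ _ le_rfl
    have ha : a ≫ (V (U.ι u)).ι = (U.ι ⁻¹ᵁ V (U.ι u)).ι ≫ U.ι := Scheme.Hom.resLE_comp_ι _ _
    rw [← Category.assoc, ← ha, Category.assoc, hgl, hgf _ a _ ha]
  refine ⟨gl, ⟨hglw, hUgl⟩, fun g' ⟨hg', hg'U⟩ => ?_⟩
  haveI : IsDominant U.ι := ⟨by rw [DenseRange, Scheme.Opens.range_ι]; exact hU⟩
  exact ext_of_isDominant_of_isSeparated A.hom (hg'.trans hglw.symm) U.ι (hg'U.trans hUgl.symm)

/-- rational maps from regular schemes to abelian schemes are morphisms -/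
theorem existsUnique_map {S : Scheme.{u}} (A : Over S) [GrpObj A] [IsProper A.hom] [Smooth A.hom]
    [GeometricallyConnected A.hom] (t : T ⟶ S) [IsLocallyNoetherian T]
    (hreg : ∀ x : T, IsRegularLocalRing (T.presheaf.stalk x)) (U : T.Opens) (hU : Dense (U : Set T))
    (g : U.toScheme ⟶ A.left) (hg : g ≫ A.hom = U.ι ≫ t) :
    ∃! g' : T ⟶ A.left, g' ≫ A.hom = t ∧ U.ι ≫ g' = g := by
  let AT := (Over.pullback t).obj A
  letI : GrpObj AT := Functor.grpObjObj
  haveI : IsProper AT.hom := inferInstanceAs (IsProper (pullback.snd A.hom t))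
  haveI : Smooth AT.hom := inferInstanceAs (Smooth (pullback.snd A.hom t))
  haveI : GeometricallyConnected AT.hom := inferInstanceAs (GeometricallyConnected (pullback.snd A.hom t))
  obtain ⟨σ, ⟨hσ1, hσ2⟩, huniq⟩ := existsUnique_section hreg AT U hU (pullback.lift g U.ι hg) (pullback.lift_snd _ _ _)
  refine ⟨σ ≫ pullback.fst A.hom t, ⟨?_, ?_⟩, fun g' ⟨h1, h2⟩ => ?_⟩
  · rw [Category.assoc, pullback.condition, ← Category.assoc]
    exact (congrArg (· ≫ t) hσ1).trans (Category.id_comp t)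
  · rw [← Category.assoc, hσ2, pullback.lift_fst]
  · have h := huniq (pullback.lift g' (𝟙 T) (by rw [h1, Category.id_comp])) ⟨pullback.lift_snd _ _ _,
      pullback.hom_ext (by simp [h2]) (by simp)⟩
    rw [← h, pullback.lift_fst]

end Groth.Agent.AbExt

end
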