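import Groth.Agent.Lib.AVProj
import Groth.Agent.Lib.AVAmple
import Groth.Agent.AVPoinc.PhiFinite
import Groth.Agent.Lib.AbDualBase
import Groth.Agent.FppfPic.TrivClosed
import Groth.Agent.S0234
import Groth.Agent.WeilExt.Extend
import Groth.Agent.H23.RedSub

/-!
Auxiliary facts for extending sections of abelian schemes over regular bases.
-/

noncomputable section

set_option autoImplicit false
set_option linter.style.haveILetI false
set_option linter.unusedSectionVars false
set_option backward.isDefEq.respectTransparency false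
set_option backward.isDefEq.respectTransparency.types false
set_option maxHeartbeats 1000000
set_option synthInstance.maxHeartbeats 400000

universe u

open CategoryTheory CategoryTheory.Limits MonoidalCategory CartesianMonoidalCategory MonObj AlgebraicGeometry TopologicalSpace

attribute [-instance] CategoryTheory.catToReflQuiver

namespace Groth.Agent.AbExt

open Groth.Agent Groth.Agent.H23 Groth.Agent.H23.TrivBasic Groth.Agent.H23.CubeAb
open scoped Groth.Agent.H23.PicMul CategoryTheory.Obj

/-- invertible classes extend from opens of schemes with factorial local rings -/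
theorem exists_extend_cl {Y U : Scheme.{u}} [IsLocallyNoetherian Y] (j : U ⟶ Y) [IsOpenImmersion j]
    (hufd : ∀ y : Y, UniqueFactorizationMonoid (Y.presheaf.stalk y)) {c : PicF.Cl U} (hc : PicF.IsInvertibleCl c) :
    ∃ d : PicF.Cl Y, PicF.IsInvertibleCl d ∧ PicF.pullCl j d = c := by
  let V := j.opensRange
  let e : U ≅ V.toScheme := IsOpenImmersion.isoOfRangeEq j V.ι (by rw [Scheme.Opens.range_ι]; rfl)
  obtain ⟨M, hMc, hM⟩ := PicClLib.isInvertibleCl_pullCl e.inv hc
  obtain ⟨N, hN, ⟨i⟩⟩ := S0234.result Y V M hM fun y _ => hufd y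
  refine ⟨PicF.cl N, ⟨N, rfl, hN⟩, ?_⟩
  have hV : PicF.pullCl V.ι (PicF.cl N) = PicF.cl M :=
    (PicGrp.cl_eq_cl_iff _ _).2 ⟨((Scheme.Modules.restrictFunctorIsoPullback V.ι).app N).symm ≪≫ i⟩
  rw [← show e.hom ≫ V.ι = j from IsOpenImmersion.isoOfRangeEq_hom_fac _ _ _, ← PicClLib.pullCl_comp, hV, hMc,
    PicClLib.pullCl_comp, Iso.hom_inv_id, PicClLib.pullCl_id]

variable {T : Scheme.{u}}

/-- an abelian scheme over a regular base is regular with factorial local rings -/
theorem ufd_stalk [IsLocallyNoetherian T] (hreg : ∀ t : T, IsRegularLocalRing (T.presheaf.stalk t)) {Y : Scheme.{u}}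
    (f : Y ⟶ T) [Smooth f] (y : Y) :
    IsDomain (Y.presheaf.stalk y) ∧ UniqueFactorizationMonoid (Y.presheaf.stalk y) := by
  haveI := WeilExt.isRegularLocalRing_stalk hreg f y
  exact ⟨(S2821.result _).1, (RegUFD.ufd _).2⟩

theorem isReduced_of_regular [IsLocallyNoetherian T] (hreg : ∀ t : T, IsRegularLocalRing (T.presheaf.stalk t)) :
    IsReduced T := by
  haveI : ∀ t : T, _root_.IsReduced (T.presheaf.stalk t) := fun t => by
    haveI := hreg t
    haveI := (S2821.result (T.presheaf.stalk t)).1
    infer_instance
  exact isReduced_of_isReduced_stalk T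

/-- an abelian scheme over an integral regular base is integral -/
theorem isIntegral_left [IsLocallyNoetherian T] [IsIntegral T]
    (hreg : ∀ t : T, IsRegularLocalRing (T.presheaf.stalk t))
    (A : Over T) [GrpObj A] [IsProper A.hom] [Smooth A.hom] [GeometricallyConnected A.hom] : IsIntegral A.left := by
  haveI : IsLocallyNoetherian A.left := LocallyOfFiniteType.isLocallyNoetherian A.hom
  haveI : IsReduced A.left := isReduced_of_regular (WeilExt.isRegularLocalRing_stalk hreg A.hom)
  let ξ := genericPoint T
  let σ := T.fromSpecResidueField ξ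
  haveI := AbDualBase.geometricallyIntegral_hom A
  haveI : GeometricallyIntegral ((Over.pullback σ).obj A).hom :=
    inferInstanceAs (GeometricallyIntegral (pullback.snd A.hom σ))
  haveI : Subsingleton ↥(Spec (T.residueField ξ)) := inferInstanceAs (Subsingleton (PrimeSpectrum (T.residueField ξ)))
  haveI : Nonempty ↥(Spec (T.residueField ξ)) := inferInstanceAs (Nonempty (PrimeSpectrum (T.residueField ξ)))
  haveI : IsIntegral ((Over.pullback σ).obj A).left :=
    GeometricallyIntegral.isIntegral_of_subsingleton ((Over.pullback σ).obj A).hom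
  haveI : IrreducibleSpace ↥(pullback A.hom σ) :=
    inferInstanceAs (IrreducibleSpace ↥((Over.pullback σ).obj A).left)
  have hF : IsIrreducible (Set.range (pullback.fst A.hom σ)) := by
    rw [← Set.image_univ]
    exact (IrreducibleSpace.isIrreducible_univ _).image _ (pullback.fst A.hom σ).continuous.continuousOn
  have hd : closure (Set.range (pullback.fst A.hom σ)) = Set.univ := by
    refine Set.eq_univ_of_forall fun x => ?_
    obtain ⟨y, hy, hyξ⟩ := Flat.generalizingMap A.hom (genericPoint_specializes (A.hom x))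
    refine hy.mem_closed isClosed_closure (subset_closure ?_)
    rw [Scheme.Pullback.range_fst, Scheme.range_fromSpecResidueField]
    exact hyξ
  haveI : IrreducibleSpace A.left := by
    have h : IsIrreducible (Set.univ : Set A.left) := hd ▸ hF.closure
    exact (irreducibleSpace_def _).2 h
  exact isIntegral_of_irreducibleSpace_of_isReduced _

/-- near any point there is an invertible class with non-degenerate geometric fibres at that point -/
theorem exists_line_finite_fix [IsLocallyNoetherian T] [IsIntegral T] [T.IsSeparated]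
    (hreg : ∀ t : T, IsRegularLocalRing (T.presheaf.stalk t))
    (A : Over T) [GrpObj A] [IsProper A.hom] [Smooth A.hom] [GeometricallyConnected A.hom] (t : T) :
    ∃ l : PicF.Cl A.left, PicF.IsInvertibleCl l ∧
      ∀ (Ω : Type u) [Field Ω] [IsAlgClosed Ω] (σ : Spec (CommRingCat.of Ω) ⟶ T), σ (IsLocalRing.closedPoint Ω) = t →
        letI : GrpObj ((Over.pullback σ).obj A) := Functor.grpObjObj
        Set.Finite {p : 𝟙_ (Over (Spec (CommRingCat.of Ω))) ⟶ (Over.pullback σ).obj A |
          PicF.pullCl (tr p).left (PicF.pullCl (pullback.fst A.hom σ) l) = PicF.pullCl (pullback.fst A.hom σ) l} := by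
  haveI := isIntegral_left hreg A
  haveI : IsLocallyNoetherian A.left := LocallyOfFiniteType.isLocallyNoetherian A.hom
  haveI : A.left.IsSeparated := ⟨by
    rw [← Limits.terminal.comp_from A.hom]
    infer_instance⟩
  let x : A.left := η[A].left t
  obtain ⟨U, hU, hxU, -⟩ := exists_isAffineOpen_mem_and_subset (x := x) (U := ⊤) trivial
  obtain ⟨D, hD, hsupp⟩ := EffCompl.exists_effCartier_compl A.left (fun V W hV hW => hV.inf hW) U hU
    (U.isOpen.dense ⟨x, hxU⟩) fun y _ => ufd_stalk hreg A.hom y
  obtain ⟨L, hL, hLI⟩ := PicInv.exists_inverse ((S8914.result D).2 hD)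
  have hLI' : ClSub.IsInverseOf L (ClSub.idealMod D) :=
    ⟨(PicMul.comm _ _).some ≪≫ hLI.some⟩
  obtain ⟨s, hs⟩ := AVAmple.exists_divisor_section D hD hL hLI'
  have hloc : locus s = U := by
    refine Opens.ext (Set.ext fun y => ?_)
    rw [SetLike.mem_coe, hs y, ← SetLike.mem_coe, hsupp]
    exact not_not
  refine ⟨PicF.cl L, ⟨L, rfl, hL⟩, fun Ω _ _ σ hσ => ?_⟩
  letI : GrpObj ((Over.pullback σ).obj A) := Functor.grpObjObj
  let AK := (Over.pullback σ).obj A
  haveI : GeometricallyIntegral AK.hom := AbDualBase.geometricallyIntegral_fibre σ A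
  haveI : IsProper AK.hom := inferInstanceAs (IsProper (pullback.snd A.hom σ))
  let π : AK.left ⟶ A.left := pullback.fst A.hom σ
  haveI : T.IsSeparated := inferInstance
  haveI : IsAffineHom σ := MorphismProperty.of_postcomp (W := @IsAffineHom) (W' := @IsSeparated) σ
    (Limits.terminal.from T) inferInstance inferInstance
  haveI : IsAffineHom π := MorphismProperty.pullback_fst (P := @IsAffineHom) A.hom σ inferInstance
  let s' : Γ((Scheme.Modules.pullback π).obj L, ⊤) := InvX.pullElt π s
  have hloc' : locus s' = π ⁻¹ᵁ locus s := locus_pullElt hL π s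
  obtain ⟨y, hy⟩ : ∃ y : AK.left, π y = x := by
    obtain ⟨y, hy, -⟩ := Scheme.Pullback.exists_preimage_pullback (f := A.hom) (g := σ) x (IsLocalRing.closedPoint Ω) (by
      rw [hσ]
      show (η[A].left ≫ A.hom) t = t
      rw [Over.w η[A]]
      rfl)
    exact ⟨y, hy⟩
  have hy' : y ∈ locus s' := by
    rw [hloc', hloc]
    show π y ∈ U
    rw [hy]
    exact hxU
  have hamp : CohB1.IsAmple ((Scheme.Modules.pullback π).obj L) :=
    AVProj.isAmple_of_affine_locus (A := AK) (PicClLib.isInvertible_pullback π hL) (AVProj.ne_zero_of_mem_locus hy')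
      (hloc' ▸ (hloc ▸ hU).preimage π)
  refine (S12002.result Ω AK _ hamp).subset fun p hp => ?_
  exact PicMul.cl_eq_iff.1 hp

end Groth.Agent.AbExt

end
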